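import Cfsg.Agent.H60.HalfPsl
import Cfsg.Agent.H488.ThreeSp_m3
import Cfsg.Agent.H57.TTOut
import Cfsg.Agent.S0814
import Cfsg.Agent.H621.Half.Sz_m3
import Cfsg.Agent.S0243
import Cfsg.Agent.S1059
import Cfsg.Agent.S1163
import Cfsg.Agent.HKS.EndOrd
import Cfsg.Agent.Prune
set_option linter.all false

section
prune_inst 0x7ffffcfdffba7fffffff7e7fffffdffc3bd2dfffffdff94bffeeebff1fff831e2fc5fbaf0de0b0fe0ed6e21c18b87853fbfeeeffe26fdc7ffffdfff45ffbec1fb5e7bd0871979c341fbc6fffe3f1778e7f3fffffffffffffffffffffffffffbeffbfffbfffff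

-- part: H392/HalfSp
section
prune_inst 0x300000000000000000000002002000400000000060000111000a00020611020000010044801c02104a220000000000000000d0000000000000000000040020802a500402100c04200001800085180c00000000000000000000000000041004000000000
set_option linter.all false
open scoped Cfsg.Agent.FastGrp

/-!
# `(2+1/2)`-transitive groups (S3576): the row `Sp_{2k}(2)` (helper392, task 1262)
-/

set_option autoImplicit false

namespace Cfsg.Agent.H392.HalfSp

open MulAction Cfsg.Agent.H384.TwoTrans Cfsg.Agent.H386.HalfTwo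
open Cfsg.Agent.H488.ThreeHalf hiding Half

universe u v

variable {G : Type u} {Ω : Type v} [Group G] [MulAction G Ω] {T : Subgroup G} {m : ℕ}

/-- `G = T` if `Out T = 1` -/
theorem top_of (A : AS G Ω T) {X : Type*} [Group X] [Finite X] (e : T ≃* X)
    (h : Nat.card (MulAut X) = Nat.card X) : T = ⊤ := by
  have := A.normal
  have := A.finG
  have h1 : Nat.card G ∣ Nat.card (MulAut T) :=
    Subgroup.card_dvd_of_injective _ (Cfsg.Agent.H57.TTOut.conj_injective A.cent)
  rw [Nat.card_congr (MulAut.congr e).toEquiv, h, ← Nat.card_congr e.toEquiv] at h1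
  exact Subgroup.eq_top_of_le_card T (Nat.le_of_dvd Nat.card_pos h1)

/-- **The row `Sp_{2k}(2)`.** -/
theorem not_sp (A : AS G Ω T) (H : Half G Ω m) {F : Type} [Field F] [Fintype F] {k : ℕ}
    (hF : Fintype.card F = 2) (hk : 3 ≤ k) (e : Nonempty (T ≃* Cfsg.PSp k F))
    (hn : Nat.card Ω = 2 ^ (k - 1) * (2 ^ k + 1) ∨ Nat.card Ω = 2 ^ (k - 1) * (2 ^ k - 1)) : False := by
  obtain ⟨e⟩ := e
  have := A.finG
  have := A.finΩ
  have := A.faithful
  have : Finite (Matrix.symplecticGroup (Fin k) F) := Subtype.finite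
  have : Finite (Cfsg.PSp k F) := inferInstance
  have hT : T = ⊤ := by
    refine top_of A e ?_
    have : Fact (Nat.Prime 2) := ⟨Nat.prime_two⟩
    have h1 := Cfsg.Agent.S0814.result (F := F) 2 1 le_rfl (by rw [hF]; rfl) k (by omega) (by omega)
    rw [if_neg (by omega)] at h1
    rw [h1]
    norm_num
  obtain ⟨z, hz⟩ : ∃ z, z + 1 = 2 ^ (k - 1) := ⟨2 ^ (k - 1) - 1, by
    have := Nat.one_le_two_pow (n := k - 1)
    omega⟩
  have hz2 : 2 ^ k = 2 * (z + 1) := by
    rw [hz, mul_comm, ← pow_succ]; congr 1; omega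
  have hz3 : 3 ≤ z := by
    have : 2 ^ 2 ≤ 2 ^ (k - 1) := Nat.pow_le_pow_right (by norm_num) (by omega)
    omega
  have hdeg : Deg (Nat.card Ω) z := by
    rw [hz2, ← hz] at hn
    rcases hn with hn | hn
    · left; rw [hn]; ring
    · right; rw [hn]; congr 1
  have hn3 : 3 ≤ Nat.card Ω := by
    rcases hdeg with h | h
    · rw [h]; nlinarith
    · rw [h]; nlinarith
  have h2G := A.two
  rw [MulAction.is_two_pretransitive_iff] at h2G
  have h2 : ∀ a b c d : Ω, a ≠ b → c ≠ d → ∃ g : T, g • a = c ∧ g • b = d := by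
    intro a b c d hab hcd
    obtain ⟨g, hg1, hg2⟩ := h2G hab hcd
    exact ⟨⟨g, by rw [hT]; exact Subgroup.mem_top g⟩, hg1, hg2⟩
  have hnt : Nontrivial Ω := Finite.one_lt_card_iff_nontrivial.1 (by omega)
  obtain ⟨a, b, hab⟩ := exists_pair_ne Ω
  have hTT : TT T a b = GG G a b := by
    ext g
    rw [mem_TT, mem_GG, hT]
    simp
  have hl : ∀ c, c ≠ a ∧ c ≠ b → Nat.card (orbit (TT T a b) c) = m := by
    intro c hc
    rw [hTT]
    exact H.orb a b c hab hc.1 hc.2
  set C : Set T := e ⁻¹' Cl k F with hCdef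
  have hC : ∀ t ∈ C, ∀ g : T, g * t * g⁻¹ ∈ C := by
    intro t ht g
    show e (g * t * g⁻¹) ∈ Cl k F
    rw [map_mul, map_mul, map_inv]
    exact Cl_conj _ ht _
  have hCn : C.ncard = (2 * z + 1) * (2 * z + 3) := by
    have h1 : C.ncard = (Cl k F).ncard := by
      have : C = e.symm '' Cl k F := by
        ext x
        constructor
        · intro hx
          exact ⟨e x, hx, e.symm_apply_apply x⟩
        · rintro ⟨y, hy, rfl⟩
          show e (e.symm y) ∈ Cl k F
          rwa [e.apply_symm_apply]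
      rw [this, Set.ncard_image_of_injective _ e.symm.injective]
    rw [h1, ncard_Cl hF (by omega)]
    have e' : 2 ^ (2 * k) = 4 * (z + 1) ^ 2 := by
      rw [mul_comm, pow_mul, hz2]; ring
    rw [e']
    have : 4 * (z + 1) ^ 2 = (2 * z + 1) * (2 * z + 3) + 1 := by ring
    omega
  obtain ⟨t₀, ht₀⟩ : C.Nonempty := by
    rw [← Set.ncard_pos, hCn]
    positivity
  have hφ : ∀ t ∈ C, {x : Ω | t • x = x}.ncard = {x : Ω | t₀ • x = x}.ncard := by
    intro t ht
    obtain ⟨g, hg⟩ := Cl_trans hF (e t₀) (e t) ht₀ ht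
    have h4 : t = e.symm g * t₀ * (e.symm g)⁻¹ := by
      apply e.injective
      rw [map_mul, map_mul, map_inv, e.apply_symm_apply, hg]
    rw [h4]
    exact ncard_fix_conj _ _
  set φ := {x : Ω | t₀ • x = x}.ncard with hφdef
  have hφn : φ < Nat.card Ω := by
    rw [← Set.ncard_univ]
    refine Set.ncard_lt_ncard ?_ Set.finite_univ
    rw [Set.ssubset_univ_iff]
    intro h4
    have h5 : t₀ = 1 := by
      apply FaithfulSMul.eq_of_smul_eq_smul (α := Ω)
      intro x
      rw [one_smul]
      have : x ∈ {x : Ω | t₀ • x = x} := by rw [h4]; trivial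
      exact this
    have h6 : C ⊆ {1} := by
      intro t ht
      obtain ⟨g, hg⟩ := Cl_trans hF (e t₀) (e t) ht₀ ht
      rw [h5, map_one, mul_one, mul_inv_cancel] at hg
      exact e.injective (by rw [← hg, map_one])
    have h7 := Set.ncard_le_ncard h6
    rw [Set.ncard_singleton, hCn] at h7
    nlinarith
  have hcount := class_count (X := T) (Ω := Ω) h2 C hC hφ hab
  rw [hCn] at hcount
  have hfix := num_fix hdeg hz3 hφn hcount
  have hdvd := dvd_mul_fix A C hC hφ hab hl
  have hl2 := num_len hdeg hk hz H.dvd hdvd hfix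
  have h9 : 3 ∣ Nat.card (GG G a b) := by
    refine num_order hdeg hk hz ?_
    have hcard : Nat.card G = Nat.card T := by rw [hT]; exact (Subgroup.card_top).symm
    rw [← Cfsg.Agent.H386.HalfTwo.card_eq A.two hab, hcard, Nat.card_congr e.toEquiv, ← hF,
      ← Cfsg.Agent.OddHalf.Orders.card_psp (F := F) k (by omega)]
    rw [hF]
    have : Cfsg.Agent.OddHalf.Orders.spDen 2 = 1 := rfl
    rw [this, one_mul]
  have h10 := H.prime_le hab Nat.prime_three h9
  omega

/-- **Task 1262.** -/
theorem sp (A : AS G Ω T) (H : Half G Ω m) {F : Type} [Field F] [Fintype F] {k : ℕ}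
    (hF : Fintype.card F = 2) (hk : 3 ≤ k) (e : Nonempty (T ≃* Cfsg.PSp k F))
    (hn : Nat.card Ω = 2 ^ (k - 1) * (2 ^ k + 1) ∨ Nat.card Ω = 2 ^ (k - 1) * (2 ^ k - 1)) :
    m = 1 ∨ IsMultiplyPretransitive G Ω 3 :=
  (not_sp A H hF hk e hn).elim

end Cfsg.Agent.H392.HalfSp
end

-- part: H386/HalfTwo/Psl
section
prune_inst 0x10200458000000001800000200000010000002004000000040040001480000a0010800002005101008100000000040110000800200000000000000002604010000000080080000000000000000000000000000000000000000000000000004000400000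
set_option linter.all false
open scoped Cfsg.Agent.FastGrp

/-!
# `(2+1/2)`-transitive groups (S3576): the row `PSL_d(q)`, `d ≥ 3` (helper386)

The stabiliser of two points `a`, `b` in `T` has only orbits of length `≥ q ^ 2` outside the line `ab`; so the orbit of a
third point of the line under `G_ab` stays on the line and has length at most `q + 1`.
-/

set_option autoImplicit false
set_option linter.unusedSectionVars false

namespace Cfsg.Agent.H386.HalfTwo

open MulAction Matrix Cfsg.Agent.H392.MultTrans Cfsg.Agent.H384.TwoTrans Cfsg.Agent.H488.ThreeHalf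
open scoped LinearAlgebra.Projectivization

universe u v

section vec

variable {F : Type*} [Field F] {ι : Type*} [Fintype ι] [DecidableEq ι]

theorem tr_vec {i j : ι} (hij : i ≠ j) (x : F) (v : ι → F) :
    (SpecialLinearGroup.transvection hij x).1 *ᵥ v = v + (x * v j) • Pi.single i 1 := by
  have h0 : (SpecialLinearGroup.transvection hij x).1 = 1 + Matrix.single i j x := rfl
  rw [h0, add_mulVec, one_mulVec]
  congr 1
  ext l
  rw [Matrix.single_mulVec]
  by_cases hl : l = i
  · subst hl; simp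
  · simp [hl]

/-- the vector `v + x v_k e_i + y v_k e_j` -/
def qv (i j k : ι) (v : ι → F) (x y : F) : ι → F := v + (x * v k) • Pi.single i 1 + (y * v k) • Pi.single j 1

theorem qv_k {i j k : ι} (hik : i ≠ k) (hjk : j ≠ k) (v : ι → F) (x y : F) : qv i j k v x y k = v k := by
  simp [qv, Pi.single_eq_of_ne hik.symm, Pi.single_eq_of_ne hjk.symm]

theorem qv_ne {i j k : ι} (hik : i ≠ k) (hjk : j ≠ k) {v : ι → F} (hv : v k ≠ 0) (x y : F) : qv i j k v x y ≠ 0 := by
  intro h
  have := congrFun h k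
  rw [qv_k hik hjk] at this
  exact hv this

theorem tr_qv {i j k : ι} (hij : i ≠ j) (hik : i ≠ k) (hjk : j ≠ k) {v : ι → F} (x y : F) :
    ((SpecialLinearGroup.transvection hik x * SpecialLinearGroup.transvection hjk y : _root_.Matrix.SpecialLinearGroup ι F)).1 *ᵥ v =
      qv i j k v x y := by
  change ((SpecialLinearGroup.transvection hik x).1 * (SpecialLinearGroup.transvection hjk y).1) *ᵥ v = _
  rw [← mulVec_mulVec, tr_vec, tr_vec, qv]
  have h1 : (v + (y * v k) • (Pi.single j 1 : ι → F)) k = v k := by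
    simp [Pi.single_eq_of_ne hjk.symm]
  rw [h1]
  abel

theorem qv_inj {i j k : ι} (hij : i ≠ j) (hik : i ≠ k) (hjk : j ≠ k) {v : ι → F} (hv : v k ≠ 0) {x y x' y' : F}
    (h : Projectivization.mk F (qv i j k v x y) (qv_ne hik hjk hv x y) =
      Projectivization.mk F (qv i j k v x' y') (qv_ne hik hjk hv x' y')) : x = x' ∧ y = y' := by
  rw [Projectivization.mk_eq_mk_iff'] at h
  obtain ⟨l, hl⟩ := h
  have h1 := congrFun hl k
  rw [Pi.smul_apply, qv_k hik hjk, qv_k hik hjk, smul_eq_mul] at h1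
  have hl1 : l = 1 := by
    have : (l - 1) * v k = 0 := by rw [sub_mul, h1, one_mul, sub_self]
    rcases mul_eq_zero.1 this with h | h
    · exact sub_eq_zero.1 h
    · exact absurd h hv
  rw [hl1, one_smul] at hl
  have h2 := congrFun hl i
  have h3 := congrFun hl j
  simp only [qv, Pi.single_eq_of_ne hij, hv, _root_.Pi.add_apply, _root_.Pi.smul_apply, _root_.Pi.single_eq_same, _root_.smul_eq_mul, _root_.mul_one, _root_.MulZeroClass.mul_zero, _root_.add_zero, _root_.add_right_inj, _root_.mul_eq_mul_right_iff, _root_.or_false] at h2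
  simp only [qv, Pi.single_eq_of_ne hij.symm, hv, _root_.Pi.add_apply, _root_.Pi.smul_apply, _root_.smul_eq_mul, _root_.MulZeroClass.mul_zero, _root_.add_zero, _root_.Pi.single_eq_same, _root_.mul_one, _root_.add_right_inj, _root_.mul_eq_mul_right_iff, _root_.or_false] at h3
  exact ⟨h2.symm, h3.symm⟩

/-- the points of the line `P i`, `P j` -/
def lineSet (F : Type*) [Field F] {ι : Type*} [DecidableEq ι] (i j : ι) : Set (ℙ F (ι → F)) :=
  {p | ∀ k, k ≠ i → k ≠ j → p.rep k = 0}

end vec

theorem card_lineSet {F : Type*} [Field F] [Fintype F] {ι : Type*} [Fintype ι] [DecidableEq ι] {i j : ι} (hij : i ≠ j) :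
    (lineSet F i j).ncard ≤ Fintype.card F + 1 := by
  have h1 : lineSet F i j ⊆ insert (P F j) ((fun x : F => L hij x) '' Set.univ) := by
    intro p hp
    by_cases hi : p.rep i = 0
    · left
      rw [← Projectivization.mk_rep p, P, Projectivization.mk_eq_mk_iff']
      refine ⟨p.rep j, ?_⟩
      ext k
      by_cases hk : k = j
      · subst hk; simp
      · rw [Pi.smul_apply, Pi.single_eq_of_ne hk, smul_zero]
        by_cases hk' : k = i
        · rw [hk', hi]
        · rw [hp k hk' hk]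
    · right
      refine ⟨(p.rep i)⁻¹ * p.rep j, trivial, ?_⟩
      show L hij _ = p
      rw [← Projectivization.mk_rep p, L, Projectivization.mk_eq_mk_iff']
      refine ⟨(p.rep i)⁻¹, ?_⟩
      ext k
      by_cases hk : k = i
      · subst hk
        simp [Pi.single_eq_of_ne hij, hi]
      · by_cases hk' : k = j
        · subst hk'
          simp [Pi.single_eq_of_ne hij.symm]
        · have := hp k hk hk'
          simp [Pi.single_eq_of_ne hk, Pi.single_eq_of_ne hk', this]
  calc (lineSet F i j).ncard ≤ _ := Set.ncard_le_ncard h1 (Set.toFinite _)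
    _ ≤ ((fun x : F => L hij x) '' Set.univ).ncard + 1 := Set.ncard_insert_le _ _
    _ ≤ (Set.univ : Set F).ncard + 1 := Nat.add_le_add_right (Set.ncard_image_le (Set.toFinite _)) 1
    _ = Fintype.card F + 1 := by rw [Set.ncard_univ, Nat.card_eq_fintype_card]

variable {G : Type u} {Ω : Type v} [Group G] [MulAction G Ω] {T : Subgroup G} {m : ℕ}

theorem not_psl_half (A : AS G Ω T) (H : Half G Ω m) {F : Type*} [Field F] [Fintype F]
    {ι : Type*} [Fintype ι] [DecidableEq ι] {i j k : ι} (hij : i ≠ j) (hik : i ≠ k) (hjk : j ≠ k)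
    (e : T ≃* ProjectiveSpecialLinearGroup ι F) (Φ : Ω ≃ ℙ F (ι → F))
    (hΦ : ∀ (t : T) (ω : Ω), Φ (t • ω) = e t • Φ ω) : False := by
  have := A.finG
  have := A.finΩ
  have h1 : 1 < Fintype.card F := Fintype.one_lt_card
  have hlift : ∀ (M : _root_.Matrix.SpecialLinearGroup ι F) (p : ℙ F (ι → F)),
      e.symm (QuotientGroup.mk M) • Φ.symm p = Φ.symm (M • p) := by
    intro M p
    apply Φ.injective
    rw [hΦ, e.apply_symm_apply, Φ.apply_symm_apply, Φ.apply_symm_apply]
    rfl
  have hPne : ∀ {i j : ι}, i ≠ j → P F i ≠ P F j := by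
    intro i j hij h
    rw [P, P, Projectivization.mk_eq_mk_iff'] at h
    obtain ⟨l, hl⟩ := h
    have := congrFun hl i
    simp [Pi.single_eq_of_ne hij] at this
  have hLne : ∀ k : ι, k = i ∨ k = j → L hij (1 : F) ≠ P F k := by
    intro k hk h
    rw [L, P, Projectivization.mk_eq_mk_iff'] at h
    obtain ⟨l, hl⟩ := h
    have h4 := congrFun hl i
    have h5 := congrFun hl j
    rcases hk with rfl | rfl
    · simp [Pi.single_eq_of_ne hij.symm] at h5
    · simp [Pi.single_eq_of_ne hij] at h4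
  set a := Φ.symm (P F i) with ha
  set b := Φ.symm (P F j) with hb
  have hab : a ≠ b := fun h => hPne hij (Φ.symm.injective h)
  -- the orbits outside the line are long
  have hge : ∀ p : ℙ F (ι → F), p ∉ lineSet F i j →
      Fintype.card F * Fintype.card F ≤ Nat.card (orbit (TT T a b) (Φ.symm p)) := by
    intro p hp
    have hp' : ∃ k, k ≠ i ∧ k ≠ j ∧ p.rep k ≠ 0 := by
      by_contra hcon
      push Not at hcon
      exact hp hcon
    obtain ⟨k, hki, hkj, hk⟩ := hp'
    have h4 : (fun x : F × F => Φ.symm (Projectivization.mk F (qv i j k p.rep x.1 x.2)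
        (qv_ne hki.symm hkj.symm hk x.1 x.2))) '' Set.univ ⊆ orbit (TT T a b) (Φ.symm p) := by
      rintro _ ⟨⟨x, y⟩, -, rfl⟩
      set M := SpecialLinearGroup.transvection hki.symm x * SpecialLinearGroup.transvection hkj.symm y with hM
      refine ⟨⟨(e.symm (QuotientGroup.mk M) : G), ?_⟩, ?_⟩
      · rw [mem_TT]
        refine ⟨(e.symm (QuotientGroup.mk M)).2, ?_, ?_⟩
        · show e.symm (QuotientGroup.mk M) • Φ.symm (P F i) = _
          rw [hlift, hM, mul_smul, tr_P hkj.symm hki.symm, tr_P hki.symm hki.symm]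
        · show e.symm (QuotientGroup.mk M) • Φ.symm (P F j) = _
          rw [hlift, hM, mul_smul, tr_P hkj.symm hkj.symm, tr_P hki.symm hkj.symm]
      · show e.symm (QuotientGroup.mk M) • Φ.symm p = Φ.symm _
        rw [hlift]
        congr 1
        conv_lhs => rw [← Projectivization.mk_rep p]
        rw [Projectivization.smul_mk]
        congr 1
        rw [smul_eq, hM, tr_qv hij hki.symm hkj.symm]
    rw [Nat.card_coe_set_eq]
    calc Fintype.card F * Fintype.card F = (Set.univ : Set (F × F)).ncard := by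
          rw [Set.ncard_univ, Nat.card_eq_fintype_card, Fintype.card_prod]
      _ = _ := by
          rw [Set.ncard_image_of_injective]
          rintro ⟨x, y⟩ ⟨x', y'⟩ h
          obtain ⟨h5, h6⟩ := qv_inj hij hki.symm hkj.symm hk (Φ.symm.injective h)
          exact Prod.ext h5 h6
      _ ≤ _ := Set.ncard_le_ncard h4 (Set.toFinite _)
  have hPk : P F k ∉ lineSet F i j := by
    intro h
    have h2 := h k hik.symm hjk.symm
    obtain ⟨c, hc⟩ := Projectivization.exists_smul_eq_mk_rep F (Pi.single k 1 : ι → F) (single_ne k)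
    have h3 := congrFun hc k
    rw [Pi.smul_apply, Pi.single_eq_same] at h3
    have h4 : (P F k).rep k = c • (1 : F) := h3.symm
    rw [h4] at h2
    have : (c : F) = 0 := by simpa [Units.smul_def] using h2
    exact c.ne_zero this
  -- the third point of the line
  set c := Φ.symm (L hij (1 : F)) with hc
  have hca : c ≠ a := fun h => hLne i (Or.inl rfl) (Φ.symm.injective h)
  have hcb : c ≠ b := fun h => hLne j (Or.inr rfl) (Φ.symm.injective h)
  have hda : Φ.symm (P F k) ≠ a := fun h => hPne hik.symm (Φ.symm.injective h)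
  have hdb : Φ.symm (P F k) ≠ b := fun h => hPne hjk.symm (Φ.symm.injective h)
  have hm1 := H.orb a b c hab hca hcb
  have hm2 := H.orb a b _ hab hda hdb
  have hm3 : Fintype.card F * Fintype.card F ≤ m := by
    rw [← hm2]
    refine (hge _ hPk).trans ?_
    rw [Nat.card_coe_set_eq, Nat.card_coe_set_eq]
    apply Set.ncard_le_ncard _ (Set.toFinite _)
    rintro _ ⟨g, rfl⟩
    obtain ⟨g, hg⟩ := g
    rw [mem_TT] at hg
    exact ⟨⟨g, mem_GG.2 ⟨hg.2.1, hg.2.2⟩⟩, rfl⟩
  -- the orbit of `c` under `T_ab` stays on the line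
  have hcl : Nat.card (orbit (TT T a b) c) ≤ Fintype.card F := by
    have h4 : orbit (TT T a b) c ⊆ (fun x : F => Φ.symm (L hij x)) '' Set.univ := by
      rintro _ ⟨g, rfl⟩
      obtain ⟨g, hg⟩ := g
      rw [mem_TT] at hg
      obtain ⟨hgT, hga, hgb⟩ := hg
      obtain ⟨M, hM⟩ := QuotientGroup.mk_surjective (e ⟨g, hgT⟩)
      have hg' : (⟨g, hgT⟩ : T) = e.symm (QuotientGroup.mk M) := by rw [hM, e.symm_apply_apply]
      have h5 : M • P F i = P F i := by
        apply Φ.symm.injective
        rw [← hlift, ← hg']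
        exact hga
      have h6 : M • P F j = P F j := by
        apply Φ.symm.injective
        rw [← hlift, ← hg']
        exact hgb
      obtain ⟨y, hy⟩ := line_smul hij h5 h6 1
      refine ⟨y, trivial, ?_⟩
      show Φ.symm (L hij y) = (⟨g, hgT⟩ : T) • Φ.symm (L hij 1)
      rw [hg', hlift, hy]
    rw [Nat.card_coe_set_eq]
    calc _ ≤ _ := Set.ncard_le_ncard h4 (Set.toFinite _)
      _ ≤ (Set.univ : Set F).ncard := Set.ncard_image_le (Set.toFinite _)
      _ = Fintype.card F := by rw [Set.ncard_univ, Nat.card_eq_fintype_card]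
  -- the orbit of `c` under `G_ab` stays on the line
  have hm4 : m ≤ Fintype.card F + 1 := by
    rw [← hm1]
    have h4 : orbit (GG G a b) c ⊆ Φ.symm '' lineSet F i j := by
      rintro _ ⟨g, rfl⟩
      obtain ⟨g, hg⟩ := g
      rw [mem_GG] at hg
      refine ⟨Φ (g • c), ?_, Φ.symm_apply_apply _⟩
      by_contra hcon
      have h5 := hge _ hcon
      rw [Φ.symm_apply_apply, card_orbit_smul (fun n => TT_conj A.normal hg.1 hg.2 n)] at h5
      nlinarith only [h1, hcl, h5]
    rw [Nat.card_coe_set_eq]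
    calc _ ≤ _ := Set.ncard_le_ncard h4 (Set.toFinite _)
      _ ≤ _ := Set.ncard_image_le (Set.toFinite _)
      _ ≤ _ := card_lineSet hij
  nlinarith only [h1, hm3, hm4]

/-- **The row `PSL_d(q)`, `d ≥ 3`.** -/
theorem psl (A : AS G Ω T) (H : Half G Ω m) {F : Type} [Field F] [Fintype F] {d : ℕ} (hd : 3 ≤ d)
    (e : Nonempty (T ≃* ProjectiveSpecialLinearGroup (Fin d) F))
    (hn : Nat.card Ω * (Fintype.card F - 1) = Fintype.card F ^ d - 1) : IsMultiplyPretransitive G Ω 3 := by
  exfalso
  obtain ⟨e⟩ := e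
  obtain ⟨r, hch⟩ := CharP.exists F
  obtain ⟨-, hr, -⟩ := FiniteField.card F r
  have := Fact.mk hr
  obtain ⟨k, rfl⟩ : ∃ k, d = k + 1 + 1 + 1 := ⟨d - 3, by omega⟩
  obtain ⟨e', Φ, hΦ⟩ := Cfsg.Agent.H410.ASLie.psl_equiv (m := k + 1) A e
    (char_not_dvd (d := k + 1 + 1 + 1) hr (by omega) hn)
  refine not_psl_half A H (i := (0 : Fin (k + 1 + 1 + 1))) (j := 1) (k := ⟨2, by omega⟩) ?_ ?_ ?_ e' Φ hΦ
  · intro h
    have := congrArg Fin.val h
    simp at this
  · intro h
    have := congrArg Fin.val h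
    simp at this
  · intro h
    have := congrArg Fin.val h
    simp at this

end Cfsg.Agent.H386.HalfTwo

private theorem dce_fc0e4928dc0d : _root_.True := by
  try have : _root_.True := by simp only [_root_.Cfsg.Agent.H386.HalfTwo.qv.eq_1]
  exact _root_.True.intro
end

-- part: H386/HalfTwo/Main
section
prune_inst 0x202004500000000000000000003c42c2000000002b000101000a0007880d0380000f20b4b0131200c0220470384040110000100200000020000200413804a1802b70860210ac04300001808885000000000000000000000000000000000000000400000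
set_option linter.all false
open scoped Cfsg.Agent.FastGrp

/-!
# `(2+1/2)`-transitive groups: the main theorem, from the list of the 2-transitive groups and the transitive linear
groups (helper386)
-/

set_option autoImplicit false
set_option linter.unusedSectionVars false

namespace Cfsg.Agent.H386.HalfTwo

open MulAction Cfsg.Agent.H392.MultTrans Cfsg.Agent.H384.TwoTrans Cfsg.Agent.H50.Her

universe u v

variable {G : Type u} {Ω : Type v} [Group G] [MulAction G Ω] {T : Subgroup G} {m : ℕ}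

/-- `T` has index two in the symmetric group -/
theorem three_of_card (A : AS G Ω T) (hT : Nat.card T * 2 = (Nat.card Ω).factorial) :
    IsMultiplyPretransitive G Ω 3 := by
  classical
  have := A.finG
  have := A.finΩ
  have := A.faithful
  have h5 := A.five_le
  have : Fintype Ω := Fintype.ofFinite Ω
  have hnt : Nontrivial Ω := Finite.one_lt_card_iff_nontrivial.1 (by omega)
  have hft : FaithfulSMul T Ω := A.faithfulT
  have hcard : Nat.card (toPermHom T Ω).range = Nat.card T :=
    (Nat.card_congr (MonoidHom.ofInjective MulAction.toPerm_injective).toEquiv).symm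
  have hidx : (toPermHom T Ω).range.index = 2 := by
    have h1 := (toPermHom T Ω).range.index_mul_card
    rw [hcard, Nat.card_perm, ← hT, mul_comm] at h1
    exact Nat.eq_of_mul_eq_mul_left Nat.card_pos h1
  have h1 := of_range_alt (G := T) (Ω := Ω) (m := 3) (by omega) (Equiv.Perm.eq_alternatingGroup_of_index_eq_two hidx)
  refine ⟨fun s t => ?_⟩
  obtain ⟨g, hg⟩ := exists_smul_eq T s t
  refine ⟨(g : G), ?_⟩
  ext i
  exact DFunLike.congr_fun hg i

theorem card_psl_four {F : Type*} [Field F] [Fintype F] (hF : Fintype.card F = 2) :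
    Nat.card (Matrix.ProjectiveSpecialLinearGroup (Fin 4) F) = 20160 := by
  have h := Cfsg.Agent.S0243.result hF 4 (by norm_num)
  norm_num [Fin.prod_univ_succ] at h
  exact h

theorem card_psl_two {F : Type*} [Field F] [Fintype F] {q : ℕ} (hF : Fintype.card F = q) :
    Nat.gcd 2 (q - 1) * ((q - 1) * Nat.card (Matrix.ProjectiveSpecialLinearGroup (Fin 2) F)) =
      (q ^ 2 - 1) * (q ^ 2 - q) := by
  have h := Cfsg.Agent.S0243.result hF 2 (by norm_num)
  rw [h]
  simp [Fin.prod_univ_two]

theorem card_alt {n : ℕ} (hn : 2 ≤ n) : Nat.card (alternatingGroup (Fin n)) * 2 = n.factorial := by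
  have : Nontrivial (Fin n) := Fin.nontrivial_iff_two_le.2 hn
  rw [Nat.card_eq_fintype_card, mul_comm, two_mul_card_alternatingGroup, Fintype.card_perm, Fintype.card_fin]

theorem card_psu_three (E : Type) [Field E] [Fintype E] (hE : Fintype.card E = 9) : Nat.card (Cfsg.PSU 3 E 3) = 6048 := by
  have h := Cfsg.Agent.HKS.EndOrd.card_psu_three (F := E) (t := 2) hE
  norm_num at h
  exact h

/-- the two infinite families -/
def Fam (G : Type u) (Ω : Type v) [Group G] : Prop :=
  (∃ (F : Type) (_ : Field F) (_ : Fintype F), 4 ≤ Fintype.card F ∧ Nat.card Ω = Fintype.card F + 1 ∧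
      ∃ N : Subgroup G, N.Normal ∧ Nonempty (↥N ≃* Matrix.ProjectiveSpecialLinearGroup (Fin 2) F)) ∨
    (∃ m : ℕ, 1 ≤ m ∧ IsSimpleGroup G ∧
      Nat.card G = (2 ^ (2 * m + 1)) ^ 2 * ((2 ^ (2 * m + 1)) ^ 2 + 1) * (2 ^ (2 * m + 1) - 1) ∧
      Nat.card Ω = (2 ^ (2 * m + 1)) ^ 2 + 1)

/-- **The almost simple case.** -/
theorem almost (A : AS G Ω T) (hK : Known2 T (Nat.card Ω)) (H : Half G Ω m) :
    m = 1 ∨ IsMultiplyPretransitive G Ω 3 ∨ Fam G Ω := by
  have := A.finG
  have := A.finΩ
  have := A.faithful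
  have := A.finT
  have := A.simple
  have hnt := A.nontrivialΩ
  have h5 := A.five_le
  have hdvd := H.dvd
  generalize hn : Nat.card Ω = n at hK
  cases hK with
  | alt n hn5 e =>
    right; left
    obtain ⟨e⟩ := e
    refine three_of_card A ?_
    rw [Nat.card_congr e.toEquiv, card_alt (by omega), hn]
  | psl F d n hd hd2 e hn' =>
    rcases Nat.lt_or_ge 2 d with h | h
    · exact Or.inr (Or.inl (psl A H h e (by rw [hn]; exact hn')))
    · obtain rfl : d = 2 := by omega
      right; right; left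
      refine ⟨F, inferInstance, inferInstance, hd2 rfl, ?_, T, A.normal, e⟩
      rw [hn]
      obtain ⟨k, hk⟩ : ∃ k, Fintype.card F = k + 1 := ⟨Fintype.card F - 1, by
        have : 1 < Fintype.card F := Fintype.one_lt_card
        omega⟩
      have h4 := hd2 rfl
      rw [hk] at hn' h4 ⊢
      have h6 : (k + 1) ^ 2 - 1 = (k + 1 + 1) * k := by
        have : (k + 1) ^ 2 = (k + 1 + 1) * k + 1 := by ring
        omega
      rw [h6, Nat.add_sub_cancel] at hn'
      exact Nat.eq_of_mul_eq_mul_right (by omega) hn'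
  | sp F k n hF hm e hn' =>
    rcases Cfsg.Agent.H392.HalfSp.sp A H hF hm e (by rwa [hn]) with h | h
    · exact Or.inl h
    · exact Or.inr (Or.inl h)
  | psu F q n hq hF e hn' => exact (Cfsg.Agent.H621.HalfT.psu A H hq hF e (by rwa [hn])).elim
  | sz F k n hm hF e hn' =>
    rcases Cfsg.Agent.H621.HalfT.sz A H hm hF e (by rw [hn, hn']) with h | h
    · right; right; right
      have e' : T ≃* G := (MulEquiv.subgroupCongr h).trans Subgroup.topEquiv
      refine ⟨k, hm, e'.symm.isSimpleGroup, ?_, ?_⟩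
      · obtain ⟨e⟩ := e
        rw [← Nat.card_congr e'.toEquiv, Nat.card_congr e.toEquiv, (Cfsg.Agent.S1163.result hm hF).1]
        ring
      · rw [hn, hn', hF]
    · exact Or.inl h
  | ree K k n hm hK e hn' => exact (Cfsg.Agent.H528.HalfRee.ree A H hm hK e (by rwa [hn])).elim
  | psl2_8 F hF e =>
    rcases Cfsg.Agent.H60.HalfPsl.psl2_8 A H hF e hn with h | h
    · exact Or.inl h
    · exact Or.inr (Or.inl h)
  | psl2_9 F hF e =>
    right; left
    obtain ⟨e⟩ := e
    refine three_of_card A ?_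
    rw [Nat.card_congr e.toEquiv, hn]
    have h := card_psl_two hF
    norm_num [Nat.factorial] at h ⊢
    omega
  | psl2_11 F hF e =>
    rcases Cfsg.Agent.H60.HalfPsl.psl2_11 A H hF e hn with h | h
    · exact Or.inl h
    · exact Or.inr (Or.inl h)
  | psl4_2 F hF e =>
    right; left
    obtain ⟨e⟩ := e
    refine three_of_card A ?_
    rw [Nat.card_congr e.toEquiv, hn, card_psl_four hF]
    norm_num [Nat.factorial]
  | a7 e =>
    rw [hn] at hdvd
    rcases (Nat.dvd_prime (by norm_num : Nat.Prime (15 - 2))).1 hdvd with h | h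
    · exact Or.inl h
    · right; left
      exact H.three_of_lt (by omega) A.two (by rw [hn, h]; norm_num)
  | m11 h =>
    rcases Cfsg.Agent.H868.HalfM11.m11 A H h hn with h | h
    · exact Or.inl h
    · exact Or.inr (Or.inl h)
  | m11' h =>
    rcases Cfsg.Agent.H868.HalfM11.m11' A H h hn with h | h
    · exact Or.inl h
    · exact Or.inr (Or.inl h)
  | m12 h =>
    rcases Cfsg.Agent.H970.HalfSpor.m12 A H h hn with h | h
    · exact Or.inl h
    · exact Or.inr (Or.inl h)
  | m22 h =>
    rcases Cfsg.Agent.H344.HalfM22.m22 A H h hn with h | h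
    · exact Or.inl h
    · exact Or.inr (Or.inl h)
  | m23 h => exact Or.inr (Or.inl (Cfsg.Agent.H970.HalfSpor.m23 A H h hn))
  | m24 h => exact Or.inr (Or.inl (Cfsg.Agent.H970.HalfSpor.m24 A H h hn))
  | hs h => exact Or.inl (Cfsg.Agent.H436.HalfHS.hs A H h hn)
  | co3 h => exact Or.inl (Cfsg.Agent.H970.HalfSpor.co3 A H h hn)

/-- **`(2+1/2)`-transitive groups** -/
theorem main [Finite G] [FaithfulSMul G Ω] [Finite Ω] (hn : 3 ≤ Nat.card Ω) (htrans : IsMultiplyPretransitive G Ω 2)
    (hhalf : ∀ s : Fin 2 ↪ Ω, ∀ b c : Ω, b ∉ Set.range s → c ∉ Set.range s →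
      Nat.card (MulAction.orbit (↥(⨅ i, MulAction.stabilizer G (s i))) b) =
        Nat.card (MulAction.orbit (↥(⨅ i, MulAction.stabilizer G (s i))) c))
    (hK : ∀ T : Subgroup G, AS G Ω T → Known2 T (Nat.card Ω))
    (hM : ∀ (V : Type u) [AddCommGroup V] [Module (ZMod 2) V] [Finite V] [Nontrivial V]
      (G : Subgroup (V ≃ₗ[ZMod 2] V)), (∀ v w : V, v ≠ 0 → w ≠ 0 → ∃ g ∈ G, g v = w) →
      MainOut G (⊥ : Subgroup (V ≃ₗ[ZMod 2] V))) :
    IsMultiplyPretransitive G Ω 3 ∨
    (∀ s : Fin 2 ↪ Ω, (⨅ i, MulAction.stabilizer G (s i)) = ⊥) ∨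
    (∃ (F : Type) (_ : Field F) (_ : Fintype F), 4 ≤ Fintype.card F ∧ Nat.card Ω = Fintype.card F + 1 ∧
      ∃ N : Subgroup G, N.Normal ∧ Nonempty (↥N ≃* Matrix.ProjectiveSpecialLinearGroup (Fin 2) F)) ∨
    (∃ m : ℕ, 1 ≤ m ∧ IsSimpleGroup G ∧
      Nat.card G = (2 ^ (2 * m + 1)) ^ 2 * ((2 ^ (2 * m + 1)) ^ 2 + 1) * (2 ^ (2 * m + 1) - 1) ∧
      Nat.card Ω = (2 ^ (2 * m + 1)) ^ 2 + 1) ∨
    (∃ p : ℕ, p.Prime ∧ Nat.card Ω = 2 ^ p ∧ Nat.card G = 2 ^ p * (2 ^ p - 1) * p ∧
      ∃ N : Subgroup G, N.Normal ∧ Cfsg.IsElementaryAbelian 2 N ∧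
        MulAction.IsPretransitive ↥N Ω ∧ ∀ a : Ω, MulAction.stabilizer ↥N a = ⊥) := by
  obtain ⟨m, H⟩ := exists_half hn htrans hhalf
  rcases reduction htrans hn with ⟨N, hN, hN1, hNc, ⟨p, hp, hexp⟩, htr, hsr⟩ | ⟨T, A⟩
  · by_cases hp2 : p = 2
    · subst hp2
      have hc : ∀ x ∈ N, ∀ y ∈ N, x * y = y * x := fun x hx y hy =>
        congrArg Subtype.val (hNc.is_comm.comm (⟨x, hx⟩ : N) ⟨y, hy⟩)
      rcases affine_two htrans hn H hN hc hexp htr hsr (fun F _ _ => Cfsg.Agent.S1059.result rfl)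
        (fun E _ _ hE => card_psu_three E hE) hM with h | h | ⟨p, hp, h1, h2⟩
      · exact Or.inr (Or.inl (H.concl_of_one h))
      · exact Or.inl h
      · refine Or.inr (Or.inr (Or.inr (Or.inr ⟨p, hp, h1, h2, N, hN, ?_, ?_, ?_⟩)))
        · exact ⟨hNc, hexp⟩
        · exact ⟨fun x y => by
            obtain ⟨n, hn, h⟩ := htr x y
            exact ⟨⟨n, hn⟩, h⟩⟩
        · intro a
          rw [eq_bot_iff]
          rintro ⟨n, hn⟩ h
          rw [Subgroup.mem_bot]
          exact Subtype.ext (hsr a n hn h)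
    · exact Or.inr (Or.inl (H.concl_of_one (affine_odd hn H hN hN1 hp hp2 hexp hsr)))
  · rcases almost A (hK T A) H with h | h | h | h
    · exact Or.inr (Or.inl (H.concl_of_one h))
    · exact Or.inl h
    · exact Or.inr (Or.inr (Or.inl h))
    · exact Or.inr (Or.inr (Or.inr (Or.inl h)))

end Cfsg.Agent.H386.HalfTwo
end
end
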